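import Mathlib

/-!
# Bounds on element orders modulo scalars from the dimension of `F[g]`

If `g ∈ GL_d(F)` is killed by a monic polynomial of degree at most `k` over a subfield with `r`
elements then its order modulo scalars is at most `(r ^ k - 1) / (r - 1)`.
-/

set_option autoImplicit false

namespace CfsgLib.OrderBound

open Polynomial Matrix

/-- Powers lie in the span of the first `k` powers. -/
theorem exists_rep {K A : Type*} [Field K] [Ring A] [Nontrivial A] [Algebra K A] {x : A}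
    {P : K[X]} (hP : P.Monic) (hPx : aeval x P = 0) {k : ℕ} (hk : P.natDegree ≤ k) (Q : K[X]) :
    ∃ v : Fin k → K, ∑ i, v i • x ^ (i : ℕ) = aeval x Q := by
  have hP1 : P ≠ 1 := fun h => by simp [h] at hPx
  refine ⟨fun i => (Q %ₘ P).coeff i, ?_⟩
  have h := congrArg (aeval x) (modByMonic_add_div Q P)
  rw [map_add, map_mul, hPx, zero_mul, add_zero] at h
  rw [← h, aeval_eq_sum_range' (lt_of_lt_of_le (natDegree_modByMonic_lt Q hP hP1) hk)]
  exact (Finset.sum_range (fun i => (Q %ₘ P).coeff i • x ^ i)).symm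

variable {F : Type*} [Field F] {d : ℕ}

/-- A power equal to a scalar times another power gives congruent exponents modulo scalars. -/
theorem mk_pow_eq_of_smul_eq (g : GL (Fin d) F) {c c' : F} (hc : c ≠ 0) {j j' : ℕ}
    (h : c • (g : Matrix (Fin d) (Fin d) F) ^ j = c' • (g : Matrix (Fin d) (Fin d) F) ^ j') :
    (QuotientGroup.mk g : GL (Fin d) F ⧸ Subgroup.center (GL (Fin d) F)) ^ j =
      (QuotientGroup.mk g : GL (Fin d) F ⧸ Subgroup.center (GL (Fin d) F)) ^ j' := by
  rw [← QuotientGroup.mk_pow, ← QuotientGroup.mk_pow, QuotientGroup.eq]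
  rcases Nat.eq_zero_or_pos d with rfl | hd
  · rw [Subsingleton.elim ((g ^ j)⁻¹ * g ^ j') 1]; exact one_mem _
  have : Nonempty (Fin d) := ⟨⟨0, hd⟩⟩
  have hc' : c' ≠ 0 := by
    rintro rfl
    rw [zero_smul] at h
    exact ((g.isUnit.pow j).smul (Units.mk0 c hc)).ne_zero h
  rw [Matrix.GeneralLinearGroup.mem_center_iff_val_mem_range_scalar]
  refine ⟨c'⁻¹ * c, ?_⟩
  have h3 : (g : Matrix (Fin d) (Fin d) F) ^ j' = (c'⁻¹ * c) • (g : Matrix (Fin d) (Fin d) F) ^ j := by
    rw [mul_smul, h, smul_smul, inv_mul_cancel₀ hc', one_smul]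
  rw [Units.val_mul _ (g ^ j'), Units.val_pow_eq_pow_val g j', h3, mul_smul_comm,
    show (g : Matrix (Fin d) (Fin d) F) ^ j = ((g ^ j : GL (Fin d) F) : Matrix _ _ F) from
      (Units.val_pow_eq_pow_val g _).symm, ← Units.val_mul, inv_mul_cancel, Units.val_one,
    Matrix.smul_one_eq_diagonal]
  rfl

/-- Order modulo scalars. -/
noncomputable abbrev projOrder (g : GL (Fin d) F) : ℕ :=
  orderOf (QuotientGroup.mk g : GL (Fin d) F ⧸ Subgroup.center (GL (Fin d) F))

theorem smul_pow_inj (g : GL (Fin d) F) (hd : 0 < d) {c c' : F} (hc : c ≠ 0)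
    {j j' : Fin (projOrder g)}
    (h : c • (g : Matrix (Fin d) (Fin d) F) ^ (j : ℕ) =
      c' • (g : Matrix (Fin d) (Fin d) F) ^ (j' : ℕ)) : j = j' ∧ c = c' := by
  have : Nonempty (Fin d) := ⟨⟨0, hd⟩⟩
  have hj : j = j' := Fin.ext (pow_injOn_Iio_orderOf j.2 j'.2 (mk_pow_eq_of_smul_eq g hc h))
  subst hj
  exact ⟨rfl, smul_left_injective F (g.isUnit.pow (j : ℕ)).ne_zero h⟩

/-- The counting bound. -/
theorem card_powers_le {K : Type*} [Field K] [Fintype K] [Algebra K F] (g : GL (Fin d) F)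
    (hd : 0 < d) {P : K[X]} (hP : P.Monic) (hPg : aeval (g : Matrix (Fin d) (Fin d) F) P = 0)
    {k : ℕ} (hk : P.natDegree ≤ k) :
    (Fintype.card K - 1) * projOrder g ≤ Fintype.card K ^ k - 1 := by
  classical
  have : Nonempty (Fin d) := ⟨⟨0, hd⟩⟩
  choose v hv using fun x : Kˣ × Fin (projOrder g) =>
    exists_rep hP hPg hk (C (x.1 : K) * X ^ (x.2 : ℕ))
  have hval : ∀ x : Kˣ × Fin (projOrder g), ∑ i, v x i • (g : Matrix (Fin d) (Fin d) F) ^ (i : ℕ) =
      algebraMap K F x.1 • (g : Matrix (Fin d) (Fin d) F) ^ (x.2 : ℕ) := by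
    intro x
    rw [hv, map_mul, aeval_C, map_pow, aeval_X, ← Algebra.smul_def, algebraMap_smul]
  have hne : ∀ x : Kˣ × Fin (projOrder g), algebraMap K F x.1 ≠ 0 := fun x =>
    (_root_.map_ne_zero _).2 x.1.ne_zero
  have hv0 : ∀ x, v x ≠ 0 := by
    intro x h0
    have h := hval x
    simp only [h0, Pi.zero_apply, zero_smul, Finset.sum_const_zero] at h
    exact ((g.isUnit.pow (x.2 : ℕ)).smul (Units.mk0 _ (hne x))).ne_zero h.symm
  let f : Kˣ × Fin (projOrder g) → {w : Fin k → K // w ≠ 0} := fun x => ⟨v x, hv0 x⟩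
  have hinj : Function.Injective f := by
    rintro x y h
    have h' := hval x
    rw [show v x = v y from congrArg Subtype.val h, hval y] at h'
    obtain ⟨hj, hc⟩ := smul_pow_inj g hd (hne x) h'.symm
    exact Prod.ext (Units.ext ((algebraMap K F).injective hc)) hj
  have := Fintype.card_le_of_injective f hinj
  rw [Fintype.card_prod, Fintype.card_units, Fintype.card_fin, Fintype.card_subtype_compl,
    Fintype.card_subtype_eq, Fintype.card_fun, Fintype.card_fin] at this
  exact this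

theorem projOrder_pos [Finite F] (g : GL (Fin d) F) : 0 < projOrder g := orderOf_pos _

/-- `(r - 1) * o ≤ r ^ k - 1` gives `o ≤ 1 + r + … + r ^ (k - 1)`. -/
theorem le_geom {r o k : ℕ} (hr : 2 ≤ r) (h : (r - 1) * o ≤ r ^ k - 1) :
    o ≤ ∑ i ∈ Finset.range k, r ^ i := by
  obtain ⟨x, rfl⟩ : ∃ x, r = x + 1 := ⟨r - 1, by omega⟩
  have h1 := geom_sum_mul_add x k
  rw [Nat.add_sub_cancel] at h
  refine le_of_mul_le_mul_left (a := x) ?_ (by omega)
  rw [mul_comm x (∑ i ∈ Finset.range k, (x + 1) ^ i)]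
  omega

theorem mul_geom_le {r : ℕ} (hr : 1 ≤ r) (k : ℕ) :
    (r - 1) * ∑ i ∈ Finset.range k, r ^ i = r ^ k - 1 := by
  obtain ⟨x, rfl⟩ : ∃ x, r = x + 1 := ⟨r - 1, by omega⟩
  have h1 := geom_sum_mul_add x k
  rw [Nat.add_sub_cancel, mul_comm]
  omega

end CfsgLib.OrderBound
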