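import Mathlib

/-!
# Element orders of isometries of nondegenerate bilinear forms over finite fields

An isometry in dimension at most `2m + 1` has a scalar power with exponent at most
`q ^ (m + 1) / (q - 1)`: the eigenvalues come in orbits under `x ↦ x ^ q` and `x ↦ x⁻¹`.
-/

set_option autoImplicit false

namespace CfsgLib.OrderBound

open Polynomial Matrix Function

theorem prod_fermat (q : ℕ) (hq : 1 ≤ q) : ∀ n,
    (q - 1) * ∏ v ∈ Finset.range n, (q ^ 2 ^ v + 1) + 1 = q ^ 2 ^ n ∧
    q * ∏ v ∈ Finset.range n, q ^ 2 ^ v = q ^ 2 ^ n := by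
  intro n
  induction n with
  | zero => simp; omega
  | succ n ih =>
    obtain ⟨h1, h2⟩ := ih
    have h3 : q ^ 2 ^ (n + 1) = q ^ 2 ^ n * q ^ 2 ^ n := by rw [← pow_add, pow_succ, mul_two]
    rw [Finset.prod_range_succ, Finset.prod_range_succ, h3, ← mul_assoc, ← mul_assoc, h2]
    refine ⟨?_, rfl⟩
    set P := (q - 1) * ∏ v ∈ Finset.range n, (q ^ 2 ^ v + 1)
    rw [← h1]
    ring

theorem fermat_bound (q : ℕ) (hq : 1 ≤ q) (V : Finset ℕ) :
    (q - 1) * ∏ v ∈ V, (q ^ 2 ^ v + 1) ≤ q * ∏ v ∈ V, q ^ 2 ^ v := by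
  classical
  obtain ⟨n, hn⟩ := V.exists_nat_subset_range
  obtain ⟨h1, h2⟩ := prod_fermat q hq n
  rw [← Finset.prod_sdiff hn] at h1 h2
  have h3 : ∏ v ∈ Finset.range n \ V, q ^ 2 ^ v ≤ ∏ v ∈ Finset.range n \ V, (q ^ 2 ^ v + 1) :=
    Finset.prod_le_prod (fun _ _ => Nat.zero_le _) fun _ _ => Nat.le_succ _
  have h4 : 0 < ∏ v ∈ Finset.range n \ V, q ^ 2 ^ v := Finset.prod_pos fun _ _ => pow_pos hq _
  refine Nat.le_of_mul_le_mul_left ?_ h4
  calc (∏ v ∈ Finset.range n \ V, q ^ 2 ^ v) * ((q - 1) * ∏ v ∈ V, (q ^ 2 ^ v + 1))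
      ≤ (∏ v ∈ Finset.range n \ V, (q ^ 2 ^ v + 1)) * ((q - 1) * ∏ v ∈ V, (q ^ 2 ^ v + 1)) :=
        Nat.mul_le_mul_right _ h3
    _ = (q - 1) * ((∏ v ∈ Finset.range n \ V, (q ^ 2 ^ v + 1)) * ∏ v ∈ V, (q ^ 2 ^ v + 1)) := by ring
    _ ≤ q * ((∏ v ∈ Finset.range n \ V, q ^ 2 ^ v) * ∏ v ∈ V, q ^ 2 ^ v) := by omega
    _ = _ := by ring

variable {K : Type*} [Field K] [Finite K]

/-- The orbit data of a Frobenius- and inversion-closed set. -/
theorem exists_exponent (q : ℕ) (hq : 2 ≤ q) (hfrob : Function.Injective fun x : K => x ^ q)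
    (S : Finset K) (hS0 : ∀ x ∈ S, x ≠ 0) (hS1 : ∀ x ∈ S, x⁻¹ ≠ x)
    (hSq : ∀ x ∈ S, x ^ q ∈ S) (hSi : ∀ x ∈ S, x⁻¹ ∈ S) :
    ∃ (L : ℕ) (V : Finset ℕ), 0 < L ∧ (∀ x ∈ S, x ^ L = 1) ∧
      (∀ v ∈ V, q ^ 2 ^ v + 1 ∣ L) ∧
      L * ∏ v ∈ V, q ^ 2 ^ v ≤ q ^ (S.card / 2) * ∏ v ∈ V, (q ^ 2 ^ v + 1) ∧
      (Odd q → S.Nonempty → 2 ∣ L) := by
  classical
  induction S using Finset.strongInduction with
  | H S ih =>
    rcases S.eq_empty_or_nonempty with rfl | ⟨x, hx⟩
    · exact ⟨1, ∅, one_pos, by simp, by simp, by simp, fun _ h => absurd h (by simp)⟩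
    set f : K → K := fun y => y ^ q with hf
    have hit : ∀ i, f^[i] x = x ^ q ^ i := fun i => congrFun (pow_iterate q i) x
    have hper : x ∈ periodicPts f := hfrob.mem_periodicPts x
    set d := minimalPeriod f x with hd
    have hdpos : 0 < d := minimalPeriod_pos_of_mem_periodicPts hper
    set O : Finset K := (Finset.range d).image fun i => x ^ q ^ i with hO
    have hOmem : ∀ i, x ^ q ^ i ∈ O := fun i => by
      refine Finset.mem_image.2 ⟨i % d, Finset.mem_range.2 (Nat.mod_lt _ hdpos), ?_⟩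
      rw [← hit, ← hit, iterate_mod_minimalPeriod_eq]
    have hOcard : O.card = d := by
      rw [hO, Finset.card_image_of_injOn, Finset.card_range]
      intro i hi j hj h
      refine iterate_injOn_Iio_minimalPeriod (f := f) (x := x) (Finset.mem_range.1 hi)
        (Finset.mem_range.1 hj) ?_
      show f^[i] x = f^[j] x
      rw [hit, hit]; exact h
    have hxd : x ^ q ^ d = x := by rw [← hit]; exact iterate_minimalPeriod
    have hOS : ∀ i, x ^ q ^ i ∈ S := by
      intro i
      induction i with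
      | zero => simpa using hx
      | succ i ih => rw [pow_succ, pow_mul]; exact hSq _ ih
    have hOsub : O ⊆ S := fun y hy => by
      obtain ⟨i, -, rfl⟩ := Finset.mem_image.1 hy
      exact hOS i
    have hOq : ∀ y, y ^ q ∈ O → ∀ hy : y ∈ S, y ∈ O := by
      intro y hy _
      obtain ⟨i, -, hi⟩ := Finset.mem_image.1 hy
      refine (show y = x ^ q ^ (i + d - 1) from hfrob ?_) ▸ hOmem _
      show y ^ q = (x ^ q ^ (i + d - 1)) ^ q
      rw [← pow_mul, ← pow_succ, show i + d - 1 + 1 = d + i by omega, pow_add, pow_mul, hxd, hi]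
    have hx0 := hS0 x hx
    by_cases hinv : x⁻¹ ∈ O
    · obtain ⟨i, hi, hie⟩ := Finset.mem_image.1 hinv
      rw [Finset.mem_range] at hi
      have hi0 : i ≠ 0 := by
        rintro rfl
        rw [pow_zero, pow_one] at hie
        exact hS1 x hx hie.symm
      have h2i : d = 2 * i := by
        have hp : IsPeriodicPt f (2 * i) x := by
          show f^[2 * i] x = x
          rw [hit, two_mul, pow_add, pow_mul, hie, inv_pow, hie, inv_inv]
        have := Nat.le_of_dvd (by omega) hp.minimalPeriod_dvd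
        rcases Nat.eq_or_lt_of_le this with h | h
        · exact h
        · obtain ⟨c, hc⟩ := hp.minimalPeriod_dvd
          rw [← hd] at hc
          have hclt : c < 2 := by
            refine Nat.lt_of_mul_lt_mul_left (a := d) ?_
            rw [← hc]
            omega
          have hc1 : c = 1 := by
            rcases c with _ | _ | c <;> omega
          subst hc1; omega
      have hOinv : ∀ y ∈ O, y⁻¹ ∈ O := fun y hy => by
        obtain ⟨j, -, rfl⟩ := Finset.mem_image.1 hy
        rw [← inv_pow, ← hie, ← pow_mul, ← pow_add]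
        exact hOmem _
      obtain ⟨L, V, hL, hLx, hVL, hLb, hev⟩ := ih (S \ O)
        (Finset.sdiff_ssubset hOsub ⟨x, by simpa using hOmem 0⟩)
        (fun y hy => hS0 y (Finset.mem_sdiff.1 hy).1) (fun y hy => hS1 y (Finset.mem_sdiff.1 hy).1)
        (fun y hy => Finset.mem_sdiff.2 ⟨hSq y (Finset.mem_sdiff.1 hy).1,
          fun h => (Finset.mem_sdiff.1 hy).2 (hOq y h (Finset.mem_sdiff.1 hy).1)⟩)
        (fun y hy => Finset.mem_sdiff.2 ⟨hSi y (Finset.mem_sdiff.1 hy).1,
          fun h => (Finset.mem_sdiff.1 hy).2 (inv_inv y ▸ hOinv _ h)⟩)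
      have hxi : x ^ (q ^ i + 1) = 1 := by rw [pow_succ, hie, inv_mul_cancel₀ hx0]
      have hcard : S.card / 2 = (S \ O).card / 2 + i := by
        have := Finset.card_sdiff_add_card_eq_card hOsub
        rw [hOcard] at this
        omega
      set v := i.factorization 2 with hv
      have hdvd : q ^ 2 ^ v + 1 ∣ q ^ i + 1 := by
        have hodd : Odd (i / 2 ^ v) := by
          rw [Nat.odd_iff]
          have := Nat.not_dvd_ordCompl Nat.prime_two hi0
          rw [← hv] at this
          omega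
        have := Odd.nat_add_dvd_pow_add_pow (q ^ 2 ^ v) 1 hodd
        rwa [one_pow, ← pow_mul, hv, Nat.ordProj_mul_ordCompl_eq_self i 2] at this
      refine ⟨Nat.lcm L (q ^ i + 1), insert v V, Nat.lcm_pos hL (by omega), fun y hy => ?_, ?_, ?_,
        fun hodd _ => ?_⟩
      · by_cases hyO : y ∈ O
        · obtain ⟨j, -, rfl⟩ := Finset.mem_image.1 hyO
          obtain ⟨c, hc⟩ := Nat.dvd_lcm_right L (q ^ i + 1)
          rw [← pow_mul, hc, mul_comm, mul_assoc, pow_mul, hxi, one_pow]
        · obtain ⟨c, hc⟩ := Nat.dvd_lcm_left L (q ^ i + 1)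
          rw [hc, pow_mul, hLx y (Finset.mem_sdiff.2 ⟨hy, hyO⟩), one_pow]
      · intro w hw
        rcases Finset.mem_insert.1 hw with rfl | hw
        · exact hdvd.trans (Nat.dvd_lcm_right _ _)
        · exact (hVL w hw).trans (Nat.dvd_lcm_left _ _)
      · rw [hcard, pow_add]
        by_cases hvV : v ∈ V
        · rw [Finset.insert_eq_of_mem hvV]
          have hg : 2 ≤ Nat.gcd L (q ^ i + 1) := le_trans
            (Nat.succ_le_succ (Nat.one_le_pow _ _ (by omega)))
            (Nat.le_of_dvd (Nat.gcd_pos_of_pos_left _ hL) (Nat.dvd_gcd (hVL v hvV) hdvd))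
          have h1 : Nat.lcm L (q ^ i + 1) ≤ L * q ^ i := by
            have h2 := Nat.gcd_mul_lcm L (q ^ i + 1)
            have h3 : 2 * Nat.lcm L (q ^ i + 1) ≤ L * (q ^ i + 1) :=
              h2 ▸ Nat.mul_le_mul_right _ hg
            have h4 : L * 1 ≤ L * q ^ i := Nat.mul_le_mul_left _ (Nat.one_le_pow _ _ (by omega))
            rw [mul_add, mul_one] at h3
            omega
          calc _ ≤ L * q ^ i * ∏ v ∈ V, q ^ 2 ^ v := Nat.mul_le_mul_right _ h1
            _ = q ^ i * (L * ∏ v ∈ V, q ^ 2 ^ v) := by ring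
            _ ≤ q ^ i * _ := Nat.mul_le_mul_left _ hLb
            _ = _ := by ring
        · rw [Finset.prod_insert hvV, Finset.prod_insert hvV]
          have h1 : Nat.lcm L (q ^ i + 1) ≤ L * (q ^ i + 1) :=
            Nat.le_of_dvd (Nat.mul_pos hL (by omega)) (Nat.lcm_dvd_mul _ _)
          have h2 : (q ^ i + 1) * q ^ 2 ^ v ≤ q ^ i * (q ^ 2 ^ v + 1) := by
            have : q ^ 2 ^ v ≤ q ^ i := Nat.pow_le_pow_right (by omega)
              (Nat.le_of_dvd (by omega) (Nat.ordProj_dvd i 2))
            rw [add_mul, one_mul, mul_add, mul_one]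
            omega
          calc _ ≤ L * (q ^ i + 1) * (q ^ 2 ^ v * ∏ v ∈ V, q ^ 2 ^ v) := Nat.mul_le_mul_right _ h1
            _ = ((q ^ i + 1) * q ^ 2 ^ v) * (L * ∏ v ∈ V, q ^ 2 ^ v) := by ring
            _ ≤ (q ^ i * (q ^ 2 ^ v + 1)) * _ := Nat.mul_le_mul h2 hLb
            _ = _ := by ring
      · refine Dvd.dvd.trans ?_ (Nat.dvd_lcm_right L (q ^ i + 1))
        exact even_iff_two_dvd.1 (hodd.pow.add_odd odd_one)
    · set O' := O.image (fun y => y⁻¹) with hO'
      have hdisj : Disjoint O O' := by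
        rw [Finset.disjoint_left]
        intro y hy hy'
        obtain ⟨j, hj, hje⟩ := Finset.mem_image.1 hy
        obtain ⟨z, hz, rfl⟩ := Finset.mem_image.1 hy'
        obtain ⟨k, hk, rfl⟩ := Finset.mem_image.1 hz
        rw [Finset.mem_range] at hk
        apply hinv
        have h := congrArg (fun t => t ^ q ^ (d - k)) hje
        simp only [← pow_mul, ← pow_add, inv_pow] at h
        rw [show k + (d - k) = d by omega, hxd] at h
        rw [← h]
        exact hOmem _
      have hU : O ∪ O' ⊆ S := Finset.union_subset hOsub fun y hy => by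
        obtain ⟨z, hz, rfl⟩ := Finset.mem_image.1 hy
        exact hSi z (hOsub hz)
      obtain ⟨L, V, hL, hLx, hVL, hLb, hev⟩ := ih (S \ (O ∪ O'))
        (Finset.sdiff_ssubset hU ⟨x, Finset.mem_union_left _ (by simpa using hOmem 0)⟩)
        (fun y hy => hS0 y (Finset.mem_sdiff.1 hy).1) (fun y hy => hS1 y (Finset.mem_sdiff.1 hy).1)
        (fun y hy => Finset.mem_sdiff.2 ⟨hSq y (Finset.mem_sdiff.1 hy).1, fun h => by
          obtain ⟨hyS, hyn⟩ := Finset.mem_sdiff.1 hy
          rcases Finset.mem_union.1 h with h | h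
          · exact hyn (Finset.mem_union_left _ (hOq y h hyS))
          · obtain ⟨z, hz, hze⟩ := Finset.mem_image.1 h
            refine hyn (Finset.mem_union_right _ (Finset.mem_image.2 ⟨y⁻¹, ?_, inv_inv y⟩))
            refine hOq y⁻¹ ?_ (hSi y hyS)
            rwa [inv_pow, ← hze, inv_inv]⟩)
        (fun y hy => Finset.mem_sdiff.2 ⟨hSi y (Finset.mem_sdiff.1 hy).1, fun h => by
          obtain ⟨hyS, hyn⟩ := Finset.mem_sdiff.1 hy
          rcases Finset.mem_union.1 h with h | h
          · exact hyn (Finset.mem_union_right _ (Finset.mem_image.2 ⟨y⁻¹, h, inv_inv y⟩))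
          · obtain ⟨z, hz, hze⟩ := Finset.mem_image.1 h
            rw [_root_.inv_inj] at hze
            exact hyn (Finset.mem_union_left _ (hze ▸ hz))⟩)
      have hqd : 2 ≤ q ^ d := le_trans hq (Nat.le_self_pow hdpos.ne' q)
      have hxd1 : x ^ (q ^ d - 1) = 1 := by
        refine mul_right_cancel₀ hx0 ?_
        rw [← pow_succ, Nat.sub_add_cancel (by omega), hxd, one_mul]
      have hcard : S.card / 2 = (S \ (O ∪ O')).card / 2 + d := by
        have h1 := Finset.card_sdiff_add_card_eq_card hU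
        have h2 : (O ∪ O').card = d + d := by
          rw [Finset.card_union_of_disjoint hdisj, hOcard, hO',
            Finset.card_image_of_injective _ inv_injective, hOcard]
        omega
      refine ⟨Nat.lcm L (q ^ d - 1), V, Nat.lcm_pos hL (by omega), fun y hy => ?_, ?_, ?_,
        fun hodd _ => ?_⟩
      · by_cases hyO : y ∈ O ∪ O'
        · obtain ⟨c, hc⟩ := Nat.dvd_lcm_right L (q ^ d - 1)
          have hj : ∀ j, (x ^ q ^ j) ^ ((q ^ d - 1) * c) = 1 := fun j => by
            rw [← pow_mul, mul_comm, mul_assoc, pow_mul, hxd1, one_pow]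
          rcases Finset.mem_union.1 hyO with h | h
          · obtain ⟨j, -, rfl⟩ := Finset.mem_image.1 h
            rw [hc]; exact hj j
          · obtain ⟨z, hz, rfl⟩ := Finset.mem_image.1 h
            obtain ⟨j, -, rfl⟩ := Finset.mem_image.1 hz
            rw [hc, inv_pow, hj j, inv_one]
        · obtain ⟨c, hc⟩ := Nat.dvd_lcm_left L (q ^ d - 1)
          rw [hc, pow_mul, hLx y (Finset.mem_sdiff.2 ⟨hy, hyO⟩), one_pow]
      · exact fun w hw => (hVL w hw).trans (Nat.dvd_lcm_left _ _)
      · have h1 : Nat.lcm L (q ^ d - 1) ≤ L * q ^ d := le_trans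
          (Nat.le_of_dvd (Nat.mul_pos hL (by omega)) (Nat.lcm_dvd_mul _ _))
          (Nat.mul_le_mul_left _ (Nat.sub_le _ _))
        rw [hcard, pow_add]
        calc _ ≤ L * q ^ d * ∏ v ∈ V, q ^ 2 ^ v := Nat.mul_le_mul_right _ h1
          _ = q ^ d * (L * ∏ v ∈ V, q ^ 2 ^ v) := by ring
          _ ≤ q ^ d * _ := Nat.mul_le_mul_left _ hLb
          _ = _ := by ring
      · refine Dvd.dvd.trans ?_ (Nat.dvd_lcm_right L (q ^ d - 1))
        exact even_iff_two_dvd.1 (Nat.Odd.sub_odd hodd.pow odd_one)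

omit [Finite K] in
theorem reverse_X_sub_C {a : K} (ha : a ≠ 0) :
    (X - C a).reverse = C (-a) * (X - C a⁻¹) := by
  have h1 : reflect 1 (X : K[X]) = 1 := by
    have := reflect_monomial (R := K) 1 1
    simpa [revAt_le] using this
  rw [reverse, natDegree_X_sub_C, reflect_sub, h1, reflect_C, pow_one, mul_sub, ← C_mul,
    neg_mul, mul_inv_cancel₀ ha, map_neg, map_neg, map_one]
  ring

omit [Finite K] in
theorem reverse_prod (s : Multiset K) (h : ∀ a ∈ s, a ≠ 0) :
    ∃ c : K, c ≠ 0 ∧ (s.map fun a => X - C a).prod.reverse =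
      C c * ((s.map (·⁻¹)).map fun a => X - C a).prod := by
  induction s using Multiset.induction with
  | empty => exact ⟨1, one_ne_zero, by simp [reverse]⟩
  | cons a s ih =>
    obtain ⟨c, hc, hs⟩ := ih fun b hb => h b (Multiset.mem_cons_of_mem hb)
    have ha := h a (Multiset.mem_cons_self a s)
    refine ⟨-a * c, mul_ne_zero (neg_ne_zero.2 ha) hc, ?_⟩
    simp only [Multiset.map_cons, Multiset.prod_cons]
    rw [reverse_mul_of_domain, hs, reverse_X_sub_C ha, map_mul]
    ring

variable {F : Type*} [Field F] {ι : Type*} [Fintype ι] [DecidableEq ι]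

/-- The roots of the characteristic polynomial of an isometry are closed under inversion. -/
theorem roots_inv (g : GL ι F) (B : GL ι F)
    (hB : (g : Matrix ι ι F)ᵀ * (B : Matrix ι ι F) * g = B) [Algebra F K]
    (hs : ((g : Matrix ι ι F).charpoly.map (algebraMap F K)).Splits) :
    (((g : Matrix ι ι F).charpoly.map (algebraMap F K)).roots.map (·⁻¹)) =
      ((g : Matrix ι ι F).charpoly.map (algebraMap F K)).roots ∧
    (∀ a ∈ ((g : Matrix ι ι F).charpoly.map (algebraMap F K)).roots, a ≠ 0) := by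
  classical
  set A : Matrix ι ι F := (g : Matrix ι ι F)
  set P := A.charpoly.map (algebraMap F K)
  have hPm : P.Monic := (charpoly_monic A).map _
  have hdet : A.det ≠ 0 := ((Matrix.isUnit_iff_isUnit_det A).1 g.isUnit).ne_zero
  have h0 : ∀ a ∈ P.roots, a ≠ 0 := by
    rintro a ha rfl
    have h := (mem_roots hPm.ne_zero).1 ha
    rw [IsRoot, eval_map, eval₂_at_zero, map_eq_zero_iff _ (algebraMap F K).injective] at h
    refine hdet ?_
    rw [Matrix.det_eq_sign_charpoly_coeff, h, mul_zero]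
  refine ⟨?_, h0⟩
  have hinv : ((g⁻¹ : GL ι F) : Matrix ι ι F) =
      ((B⁻¹ : GL ι F) : Matrix ι ι F) * Aᵀ * (B : Matrix ι ι F) :=
    Units.inv_eq_of_mul_eq_one_left (by
      rw [mul_assoc, mul_assoc, ← mul_assoc Aᵀ, hB, Units.inv_mul])
  have hcp : (((g⁻¹ : GL ι F) : Matrix ι ι F)).charpoly = A.charpoly := by
    rw [hinv, Matrix.coe_units_inv, Matrix.charpoly_units_conj', Matrix.charpoly_transpose]
  rw [Matrix.coe_units_inv, Matrix.charpoly_inv _ g.isUnit, ← Matrix.reverse_charpoly] at hcp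
  have hcp' := congrArg (Polynomial.map (algebraMap F K)) hcp
  have hrev : A.charpoly.reverse.map (algebraMap F K) = P.reverse := by
    rw [reverse, reverse, natDegree_map]
    exact (reflect_map _ _ _).symm
  obtain ⟨c, hc, hcr⟩ := reverse_prod P.roots h0
  rw [← Polynomial.Splits.eq_prod_roots_of_monic hs hPm] at hcr
  obtain ⟨e, he, hmain⟩ : ∃ e : K, e ≠ 0 ∧
      C e * ((P.roots.map (·⁻¹)).map fun a => X - C a).prod = P := by
    refine ⟨(-1) ^ Fintype.card ι * algebraMap F K A.det⁻¹ * c, mul_ne_zero (mul_ne_zero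
      (pow_ne_zero _ (neg_ne_zero.2 one_ne_zero))
      ((_root_.map_ne_zero _).2 (inv_ne_zero hdet))) hc, ?_⟩
    rw [Polynomial.map_mul, Polynomial.map_mul, Polynomial.map_pow, Polynomial.map_neg,
      Polynomial.map_one, map_C, hrev, hcr, Ring.inverse_eq_inv'] at hcp'
    rw [map_mul, map_mul, map_pow, map_neg, map_one]
    conv_rhs => rw [← show _ = P from hcp']
    ring
  conv_rhs => rw [← hmain, roots_C_mul _ he, roots_multiset_prod_X_sub_C]

/-- An element with all eigenvalues satisfying `x ^ L = c` has a scalar power. -/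
theorem pow_mul_eq_smul [Nonempty ι] [Algebra F K] {p : ℕ} [Fact p.Prime] [CharP F p]
    (A : Matrix ι ι F) (hs : (A.charpoly.map (algebraMap F K)).Splits) {L k : ℕ} {c : F}
    (hL : ∀ a ∈ (A.charpoly.map (algebraMap F K)).roots, a ^ L = algebraMap F K c) (hL0 : 0 < L)
    (hk : ∀ a : K, (A.charpoly.map (algebraMap F K)).rootMultiplicity a ≤ p ^ k) :
    A ^ (L * p ^ k) = (c ^ p ^ k) • (1 : Matrix ι ι F) := by
  classical
  set P := A.charpoly.map (algebraMap F K)
  have hPm : P.Monic := (charpoly_monic A).map _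
  have hne : (X ^ L - C (algebraMap F K c)) ≠ 0 := X_pow_sub_C_ne_zero hL0 _
  have hdvd : P ∣ (X ^ L - C (algebraMap F K c)) ^ p ^ k := by
    rw [Polynomial.Splits.eq_prod_roots_of_monic hs hPm,
      Multiset.prod_X_sub_C_dvd_iff_le_roots (pow_ne_zero _ hne), roots_pow, Multiset.le_iff_count]
    intro a
    rw [Multiset.count_nsmul]
    by_cases ha : a ∈ P.roots
    · have h1 : 1 ≤ (X ^ L - C (algebraMap F K c)).roots.count a :=
        Multiset.one_le_count_iff_mem.2 ((mem_roots hne).2 (by simp [hL a ha]))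
      have h2 : P.roots.count a ≤ p ^ k := (count_roots P).trans_le (hk a)
      calc _ ≤ p ^ k * 1 := by rw [mul_one]; exact h2
        _ ≤ _ := Nat.mul_le_mul_left _ h1
    · rw [Multiset.count_eq_zero_of_notMem ha]; exact Nat.zero_le _
  have hdvdF : A.charpoly ∣ (X ^ L - C c) ^ p ^ k := by
    rw [← Polynomial.map_dvd_map' (algebraMap F K), Polynomial.map_pow, Polynomial.map_sub,
      Polynomial.map_pow, map_X, map_C]
    exact hdvd
  have h := aeval_eq_zero_of_dvd_aeval_eq_zero hdvdF (Matrix.aeval_self_charpoly A)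
  rw [map_pow, map_sub, map_pow, aeval_X, aeval_C,
    sub_pow_char_pow_of_commute (p := p) (h := (Algebra.commute_algebraMap_right c _)),
    sub_eq_zero, ← pow_mul, ← map_pow, Algebra.algebraMap_eq_smul_one] at h
  exact h

theorem odd_pow_bound {p k : ℕ} (hp : 3 ≤ p) : 2 * k + 1 ≤ p ^ k := by
  refine le_trans ?_ (Nat.pow_le_pow_left hp k)
  induction k with
  | zero => norm_num
  | succ k ih => rw [pow_succ]; omega

theorem two_mul_le_two_pow (k : ℕ) : 2 * k ≤ 2 ^ k := by
  induction k with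
  | zero => norm_num
  | succ k ih =>
    rw [pow_succ]
    have := Nat.two_pow_pos k
    omega

variable [Fintype F]

/-- **Main bound.** -/
theorem isometry_pow_scalar [Nonempty ι] (g B : GL ι F)
    (hB : (g : Matrix ι ι F)ᵀ * (B : Matrix ι ι F) * g = B) (m : ℕ)
    (hN : (2 ≤ m ∧ Fintype.card ι ≤ 2 * m) ∨
      (3 ≤ m ∧ Fintype.card ι ≤ 2 * m + 1 ∧ (2 : F) ≠ 0)) :
    ∃ (n : ℕ) (c : F), 0 < n ∧ (Fintype.card F - 1) * n ≤ Fintype.card F ^ (m + 1) ∧
      (g : Matrix ι ι F) ^ n = c • 1 := by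
  classical
  obtain ⟨p, hpF⟩ := CharP.exists F
  have : Fact p.Prime := ⟨CharP.char_is_prime F p⟩
  have hp := (Fact.out : p.Prime)
  set q := Fintype.card F with hq
  have hq2 : 2 ≤ q := Fintype.one_lt_card
  obtain ⟨fdeg, -, hfdeg⟩ := FiniteField.card F p
  have hpq : p ≤ q := by
    rw [hq, hfdeg]; exact Nat.le_self_pow fdeg.2.ne' p
  set A : Matrix ι ι F := (g : Matrix ι ι F)
  let K := A.charpoly.SplittingField
  have : Finite K := Module.finite_of_finite F
  have hs : (A.charpoly.map (algebraMap F K)).Splits := SplittingField.splits A.charpoly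
  set P := A.charpoly.map (algebraMap F K) with hP
  have hPm : P.Monic := (charpoly_monic A).map _
  obtain ⟨hRinv, hR0⟩ := roots_inv (K := K) g B hB hs
  set R := P.roots with hR
  have hcardR : R.card = Fintype.card ι := by
    rw [hR, ← hs.natDegree_eq_card_roots, natDegree_map, charpoly_natDegree_eq_dim]
  have hfrobmem : ∀ a ∈ R, a ^ q ∈ R := by
    intro a ha
    rw [hR, mem_roots hPm.ne_zero, IsRoot, eval_map, ← aeval_def] at ha ⊢
    have h := Polynomial.aeval_algHom_apply (FiniteField.frobeniusAlgHom F K) a A.charpoly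
    rw [ha, map_zero] at h
    exact h
  have hfrob : Function.Injective fun x : K => x ^ q :=
    (FiniteField.frobeniusAlgHom F K).toRingHom.injective
  have hcount : ∀ a, R.count a⁻¹ = R.count a := fun a => by
    conv_lhs => rw [← hRinv]
    exact Multiset.count_map_eq_count' _ _ inv_injective a
  have hinvmem : ∀ a ∈ R, a⁻¹ ∈ R := fun a ha => by
    rw [← Multiset.count_pos, hcount, Multiset.count_pos]; exact ha
  set S := R.toFinset.filter fun a => a⁻¹ ≠ a with hS
  have hSmem : ∀ a, a ∈ S ↔ a ∈ R ∧ a⁻¹ ≠ a := fun a => by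
    rw [hS, Finset.mem_filter, Multiset.mem_toFinset]
  have hsplit : ∀ T : Finset K, ∑ a ∈ T, R.count a ≤ Fintype.card ι := fun T => by
    rw [← hcardR, ← Multiset.sum_count_eq_card (s := T ∪ R.toFinset)
      (fun a ha => Finset.mem_union_right _ (Multiset.mem_toFinset.2 ha))]
    exact Finset.sum_le_sum_of_subset Finset.subset_union_left
  have hcS : S.card ≤ ∑ a ∈ S, R.count a := by
    rw [Finset.card_eq_sum_ones]
    exact Finset.sum_le_sum fun a ha => Multiset.one_le_count_iff_mem.2 ((hSmem a).1 ha).1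
  have hpm : ∀ a ∈ R, a⁻¹ = a → a = 1 ∨ a = -1 := fun a ha h => by
    have h1 : a * a = 1 := by
      nth_rw 2 [← h]; exact mul_inv_cancel₀ (hR0 a ha)
    exact mul_self_eq_one_iff.1 h1
  have hchar : CharP K p := charP_of_injective_algebraMap (algebraMap F K).injective p
  have hp2 : p = 2 → Fintype.card ι ≤ 2 * m := fun h => by
    rcases hN with h' | ⟨-, -, h'⟩
    · exact h'.2
    · subst h; exact absurd (CharP.cast_eq_zero F 2) (by exact_mod_cast h')
  have hN1 : Fintype.card ι ≤ 2 * m + 1 := by rcases hN with h | h <;> omega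
  have hm2 : 2 ≤ m := by rcases hN with h | h <;> omega
  rcases S.eq_empty_or_nonempty with hSe | hSne
  · -- only the eigenvalues `1` and `-1`
    have hall : ∀ a ∈ R, a = 1 ∨ a = -1 := fun a ha => hpm a ha (by
      by_contra h
      have := (hSmem a).2 ⟨ha, h⟩
      simp [hSe] at this)
    by_cases hsingle : ∃ c : F, ∀ a ∈ R, a = algebraMap F K c
    · obtain ⟨c, hc⟩ := hsingle
      refine ⟨1 * p ^ m, c ^ p ^ m, by simp [hp.pos], ?_, pow_mul_eq_smul A hs
        (fun a ha => by rw [pow_one]; exact hc a ha) one_pos fun a => ?_⟩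
      · rw [one_mul, pow_succ']
        exact Nat.mul_le_mul (Nat.sub_le _ _) (Nat.pow_le_pow_left hpq m)
      · rw [← count_roots]
        refine (Multiset.count_le_card _ _).trans ?_
        rw [← hR, hcardR]
        rcases Nat.eq_or_lt_of_le hp.two_le with h | h
        · rw [← h]; exact (hp2 h.symm).trans (two_mul_le_two_pow m)
        · exact hN1.trans (odd_pow_bound h)
    push Not at hsingle
    obtain ⟨a, ha, ha1⟩ := hsingle 1
    obtain ⟨b, hb, hb1⟩ := hsingle (-1)
    rw [map_one] at ha1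
    rw [map_neg, map_one] at hb1
    have ha' := (hall a ha).resolve_left ha1
    have hb' := (hall b hb).resolve_right hb1
    subst ha' hb'
    have hp3 : 3 ≤ p := by
      rcases Nat.eq_or_lt_of_le hp.two_le with h | h
      · exfalso
        subst h
        exact ha1 (CharTwo.neg_eq 1)
      · exact h
    refine ⟨2 * p ^ (m - 1), 1 ^ p ^ (m - 1), by simp [hp.pos], ?_, pow_mul_eq_smul A hs
      (fun a ha => by rcases hall a ha with rfl | rfl <;> simp) two_pos fun x => ?_⟩
    · calc (q - 1) * (2 * p ^ (m - 1)) = (2 * (q - 1)) * p ^ (m - 1) := by ring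
        _ ≤ (q * q) * q ^ (m - 1) := Nat.mul_le_mul
            (le_trans (Nat.mul_le_mul_left 2 (Nat.sub_le _ _)) (Nat.mul_le_mul_right q hq2))
            (Nat.pow_le_pow_left hpq _)
        _ = q ^ (m + 1) := by rw [← pow_two, ← pow_add]; congr 1; omega
    · rw [← count_roots, ← hR]
      have hbound : R.count x ≤ Fintype.card ι - 1 := by
        by_cases hx : x = 1
        · have := hsplit {x, -1}
          rw [Finset.sum_pair (by rw [hx]; exact Ne.symm ha1)] at this
          have h1 := Multiset.one_le_count_iff_mem.2 ha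
          omega
        · have := hsplit {x, 1}
          rw [Finset.sum_pair hx] at this
          have h1 := Multiset.one_le_count_iff_mem.2 hb
          omega
      refine hbound.trans ?_
      have h1 : 2 * (m - 1) + 1 ≤ p ^ (m - 1) := odd_pow_bound hp3
      rcases hN with h | ⟨h, -, -⟩
      · omega
      · have h2 : 2 * m ≤ p ^ (m - 1) := by
          have : ∀ k, 2 ≤ k → 2 * (k + 1) ≤ 3 ^ k := by
            intro k hk
            induction k, hk using Nat.le_induction with
            | base => norm_num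
            | succ k _ ih => rw [pow_succ]; omega
          have h3 := (this (m - 1) (by omega)).trans (Nat.pow_le_pow_left hp3 _)
          omega
        omega
  -- orbits
  obtain ⟨L, V, hL, hLS, -, hLb, hLe⟩ := exists_exponent (K := K) q hq2 hfrob S
    (fun a ha => hR0 a ((hSmem a).1 ha).1) (fun a ha => ((hSmem a).1 ha).2)
    (fun a ha => by
      obtain ⟨h1, h2⟩ := (hSmem a).1 ha
      refine (hSmem _).2 ⟨hfrobmem a h1, fun h => h2 (hfrob ?_)⟩
      show a⁻¹ ^ q = a ^ q
      rw [inv_pow]; exact h)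
    (fun a ha => by
      obtain ⟨h1, h2⟩ := (hSmem a).1 ha
      exact (hSmem _).2 ⟨hinvmem a h1, by rw [inv_inv]; exact Ne.symm h2⟩)
  set k := S.card / 2 with hk
  have hkey : S.card ≤ Fintype.card ι := hcS.trans (hsplit S)
  refine ⟨L * p ^ (m - k), 1 ^ p ^ (m - k), Nat.mul_pos hL (pow_pos hp.pos _), ?_,
    pow_mul_eq_smul A hs (fun a ha => ?_) hL fun a => ?_⟩
  · have h1 : (q - 1) * L ≤ q ^ (k + 1) := by
      have h0 : 0 < ∏ v ∈ V, q ^ 2 ^ v := Finset.prod_pos fun _ _ => pow_pos (by omega) _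
      refine Nat.le_of_mul_le_mul_left ?_ h0
      calc (∏ v ∈ V, q ^ 2 ^ v) * ((q - 1) * L) = (q - 1) * (L * ∏ v ∈ V, q ^ 2 ^ v) := by ring
        _ ≤ (q - 1) * (q ^ k * ∏ v ∈ V, (q ^ 2 ^ v + 1)) := Nat.mul_le_mul_left _ hLb
        _ = q ^ k * ((q - 1) * ∏ v ∈ V, (q ^ 2 ^ v + 1)) := by ring
        _ ≤ q ^ k * (q * ∏ v ∈ V, q ^ 2 ^ v) := Nat.mul_le_mul_left _ (fermat_bound q (by omega) V)
        _ = _ := by ring
    calc (q - 1) * (L * p ^ (m - k)) = ((q - 1) * L) * p ^ (m - k) := by ring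
      _ ≤ q ^ (k + 1) * q ^ (m - k) := Nat.mul_le_mul h1 (Nat.pow_le_pow_left hpq _)
      _ = q ^ (m + 1) := by rw [← pow_add]; congr 1; omega
  · rw [map_one]
    by_cases h : a⁻¹ = a
    · rcases hpm a ha h with rfl | rfl
      · exact one_pow _
      · rcases Nat.eq_or_lt_of_le hp.two_le with h' | h'
        · subst h'; rw [CharTwo.neg_eq, one_pow]
        · refine Even.neg_one_pow (even_iff_two_dvd.2 (hLe ?_ hSne))
          rw [hq, hfdeg]; exact (hp.odd_of_ne_two (by omega)).pow
    · exact hLS a ((hSmem a).2 ⟨ha, h⟩)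
  · rw [← count_roots, ← hR]
    by_cases ha : a ∈ R
    swap
    · rw [Multiset.count_eq_zero_of_notMem ha]; exact Nat.zero_le _
    by_cases h : a⁻¹ = a
    · have h1 : R.count a + S.card ≤ Fintype.card ι := by
        have h2 := hsplit (insert a S)
        rw [Finset.sum_insert (fun hm => ((hSmem a).1 hm).2 h)] at h2
        omega
      rcases Nat.eq_or_lt_of_le hp.two_le with h' | h'
      · have := hp2 h'.symm
        subst h'
        exact le_trans (by omega) (two_mul_le_two_pow (m - k))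
      · exact le_trans (by omega) (odd_pow_bound h')
    · have hmem : a ∈ S ∧ a⁻¹ ∈ S := ⟨(hSmem a).2 ⟨ha, h⟩,
        (hSmem _).2 ⟨hinvmem a ha, by rw [inv_inv]; exact Ne.symm h⟩⟩
      have h1 : 2 * R.count a + S.card ≤ Fintype.card ι + 2 := by
        have hT : ({a, a⁻¹} : Finset K) ⊆ S := by
          intro x hx
          rcases Finset.mem_insert.1 hx with rfl | hx
          · exact hmem.1
          · rw [Finset.mem_singleton.1 hx]; exact hmem.2
        have h2 := hsplit S
        rw [← Finset.sum_sdiff hT, Finset.sum_pair (Ne.symm h), hcount] at h2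
        have h3 : (S \ {a, a⁻¹}).card ≤ ∑ x ∈ S \ {a, a⁻¹}, R.count x := by
          rw [Finset.card_eq_sum_ones]
          exact Finset.sum_le_sum fun x hx => Multiset.one_le_count_iff_mem.2
            ((hSmem x).1 (Finset.mem_sdiff.1 hx).1).1
        have h4 := Finset.card_sdiff_add_card_eq_card hT
        rw [Finset.card_pair (Ne.symm h)] at h4
        omega
      have h5 : 1 ≤ R.count a := Multiset.one_le_count_iff_mem.2 ha
      have h6 : R.count a - 1 ≤ m - k := by omega
      have h7 : R.count a - 1 < p ^ (R.count a - 1) := Nat.lt_pow_self hp.one_lt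
      have h8 : p ^ (R.count a - 1) ≤ p ^ (m - k) := Nat.pow_le_pow_right hp.pos h6
      omega

end CfsgLib.OrderBound
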